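import Groth.Agent.H78.Formal.Algebraize

/-!
# Coherent formal modules and completions under a change of base ring

For a scheme over `Spec B` viewed over `Spec A` through `ψ : A → B`, formal modules for `I ⊆ A` and for
`IB ⊆ B` are the same.
-/

set_option autoImplicit false
set_option linter.style.haveILetI false
set_option linter.unusedSectionVars false

universe u

open CategoryTheory Limits AlgebraicGeometry Opposite TopologicalSpace

namespace Groth.Agent.H2.Completion.ChangeBase

open Groth.Agent.Lib Groth.Agent.H78.Formal Groth.Agent.H78.Formal.Sections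

variable {A B : Type u} [CommRing A] [CommRing B] (ψ : A →+* B) {X : Scheme.{u}}
  [X.Over (Spec (CommRingCat.of A))] [X.Over (Spec (CommRingCat.of B))]
  (hcomp : (X ↘ Spec (CommRingCat.of B)) ≫ Spec.map (CommRingCat.ofHom ψ) = X ↘ Spec (CommRingCat.of A))
include hcomp

theorem toGlobal_comp (a : A) :
    Coh.toGlobal (X ↘ Spec (CommRingCat.of A)) a = Coh.toGlobal (X ↘ Spec (CommRingCat.of B)) (ψ a) := by
  rw [← hcomp]
  change ((X ↘ Spec (CommRingCat.of B)) ≫ Spec.map (CommRingCat.ofHom ψ)).appTop
      ((Scheme.ΓSpecIso (CommRingCat.of A)).inv a) =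
    (X ↘ Spec (CommRingCat.of B)).appTop ((Scheme.ΓSpecIso (CommRingCat.of B)).inv (ψ a))
  rw [Scheme.Hom.comp_appTop]
  exact congrArg (X ↘ Spec (CommRingCat.of B)).appTop
    (ConcreteCategory.congr_hom (Scheme.ΓSpecIso_inv_naturality (CommRingCat.ofHom ψ)) a).symm

theorem sMap_comp (U : X.Opens) (a : A) : sMap A U a = sMap B U (ψ a) :=
  congrArg (Coh.resTop X (op U)) (toGlobal_comp ψ hcomp a)

theorem smulMod_comp' (M : X.Modules) (a : A) :
    _root_.Formal.smulMod A M a = _root_.Formal.smulMod B M (ψ a) :=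
  Scheme.Modules.hom_ext _ _ fun U => ConcreteCategory.ext_apply fun s => by
    rw [smulMod_app, smulMod_app, sMap_comp ψ hcomp]

/-- Maps killed by an ideal of `A` are those killed by its extension. -/
theorem kills_iff (J : Ideal A) {M Q : X.Modules} (φ : M ⟶ Q) :
    (∀ b ∈ J.map ψ, _root_.Formal.smulMod B M b ≫ φ = 0) ↔
      ∀ a ∈ J, _root_.Formal.smulMod A M a ≫ φ = 0 := by
  constructor
  · intro h a ha
    rw [smulMod_comp' ψ hcomp]
    exact h _ (Ideal.mem_map_of_mem ψ ha)
  · intro h b hb
    refine Scheme.Modules.hom_ext _ _ fun U => ConcreteCategory.ext_apply fun s => ?_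
    change φ.app U ((_root_.Formal.smulMod B M b).app U s) = 0
    rw [smulMod_app]
    have h1 : ∀ a ∈ J, φ.app U (sMap B U (ψ a) • s) = 0 := fun a ha => by
      rw [← sMap_comp ψ hcomp, ← smulMod_app]
      exact ConcreteCategory.congr_hom (congrArg (fun χ => χ.app U) (h a ha)) s
    induction hb using Submodule.span_induction with
    | mem b hb =>
      obtain ⟨a, ha, rfl⟩ := hb
      exact h1 a ha
    | zero => rw [map_zero, zero_smul, map_zero]
    | add x y _ _ hx hy => rw [map_add, add_smul, map_add, hx, hy, add_zero]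
    | smul c x _ hx => rw [smul_eq_mul, map_mul, mul_smul, φ.app_smul, hx, smul_zero]

theorem killedBy_iff (J : Ideal A) (M : X.Modules) :
    _root_.Formal.KilledBy (J.map ψ) M ↔ _root_.Formal.KilledBy J M := by
  have := kills_iff ψ hcomp J (𝟙 M)
  simp only [Category.comp_id] at this
  exact this

/-- Quotients by an ideal and by its extension coincide. -/
theorem isIso_desc_iff (J : Ideal A) {J' : Ideal B} (hJ : J' = J.map ψ) {M N : X.Modules} (t : M ⟶ N) :
    (∃ h : _root_.Formal.smulFamily J' M ≫ t = 0, IsIso (cokernel.desc _ t h)) ↔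
      ∃ h : _root_.Formal.smulFamily J M ≫ t = 0, IsIso (cokernel.desc _ t h) := by
  subst hJ
  constructor
  · rintro ⟨h, hi⟩
    haveI : Epi t := cokernel.π_desc _ t h ▸ epi_comp (cokernel.π _) (cokernel.desc _ t h)
    refine PullSys.exists_isIso_desc_of_factor t
      ((kills_iff ψ hcomp J t).1 ((PullSys.family_comp_iff t).1 h)) fun Q φ hφ => ?_
    refine ⟨inv (cokernel.desc _ t h) ≫
      cokernel.desc _ φ ((PullSys.family_comp_iff φ).2 ((kills_iff ψ hcomp J φ).2 hφ)), ?_⟩
    calc t ≫ _ = (cokernel.π _ ≫ cokernel.desc _ t h) ≫ inv (cokernel.desc _ t h) ≫ _ := by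
          rw [cokernel.π_desc]
      _ = φ := by rw [Category.assoc, IsIso.hom_inv_id_assoc, cokernel.π_desc]
  · rintro ⟨h, hi⟩
    haveI : Epi t := cokernel.π_desc _ t h ▸ epi_comp (cokernel.π _) (cokernel.desc _ t h)
    refine PullSys.exists_isIso_desc_of_factor t
      ((kills_iff ψ hcomp J t).2 ((PullSys.family_comp_iff t).1 h)) fun Q φ hφ => ?_
    refine ⟨inv (cokernel.desc _ t h) ≫
      cokernel.desc _ φ ((PullSys.family_comp_iff φ).2 ((kills_iff ψ hcomp J φ).1 hφ)), ?_⟩
    calc t ≫ _ = (cokernel.π _ ≫ cokernel.desc _ t h) ≫ inv (cokernel.desc _ t h) ≫ _ := by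
          rw [cokernel.π_desc]
      _ = φ := by rw [Category.assoc, IsIso.hom_inv_id_assoc, cokernel.π_desc]

/-- Coherent formal modules do not depend on the base. -/
theorem isCohFormal_iff (I : Ideal A) (G : ℕᵒᵖ ⥤ X.Modules) :
    _root_.Formal.IsCohFormal (I.map ψ) G ↔ _root_.Formal.IsCohFormal I G := by
  unfold _root_.Formal.IsCohFormal
  refine and_congr_right fun _ => and_congr (forall_congr' fun n => ?_) (forall_congr' fun n => ?_)
  · rw [← Ideal.map_pow, killedBy_iff ψ hcomp]
  · exact isIso_desc_iff ψ hcomp (I ^ (n + 1)) (Ideal.map_pow ψ I (n + 1)).symm (G.map (homOfLE (Nat.le_succ n)).op)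

/-- Completions do not depend on the base. -/
theorem completion_iso (I : Ideal A) (M : X.Modules) :
    Nonempty (_root_.Formal.completion I M ≅ _root_.Formal.completion (I.map ψ) M) := by
  refine Algebraize.nonempty_completion_iso (fun n => _root_.Formal.modPowπ (I.map ψ) (n + 1) M)
    (fun n => ?_) fun n => ?_
  · have e : (_root_.Formal.completion (I.map ψ) M).map (homOfLE (Nat.le_succ n)).op =
        _root_.Formal.modPowTrans (I.map ψ) (n + 1) M :=
      Functor.ofOpSequence_map_homOfLE_succ _ n
    rw [e]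
    exact _root_.Formal.modPowπ_trans (I.map ψ) (n + 1) M
  · refine (isIso_desc_iff ψ hcomp _ (Ideal.map_pow ψ I (n + 1)).symm _).1 ?_
    refine ⟨cokernel.condition _, ?_⟩
    have e : cokernel.desc _ (_root_.Formal.modPowπ (I.map ψ) (n + 1) M) (cokernel.condition _) = 𝟙 _ :=
      coequalizer.hom_ext ((cokernel.π_desc _ _ _).trans (Category.comp_id _).symm)
    exact e.symm ▸ (IsIso.id _)

end Groth.Agent.H2.Completion.ChangeBase
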