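import Groth.Prelude.Def_Formal2
import Groth.Agent.H78.Formal.PullSys
import Groth.Agent.Lib.Cyc.FP.Stalk
import Mathlib.CategoryTheory.Abelian.Exact
import Mathlib.CategoryTheory.Limits.Preserves.Shapes.Kernels

/-!
# Kernels and cokernels killed by a power of the ideal, under flat pullback
-/

set_option autoImplicit false
set_option linter.style.haveILetI false
set_option linter.unusedSectionVars false

universe u

open CategoryTheory Limits AlgebraicGeometry Opposite

namespace Groth.Agent.H2.Completion.KerCoker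

open Groth.Agent.H78.Formal Groth.Agent.H78.Formal.Sections

variable {A : Type u} [CommRing A] {X Y : Scheme.{u}} [X.Over (Spec (CommRingCat.of A))]
  [Y.Over (Spec (CommRingCat.of A))] {I : Ideal A}

theorem killedBy_of_iso {J : Ideal A} {M N : X.Modules} (e : M ≅ N) (h : _root_.Formal.KilledBy J M) :
    _root_.Formal.KilledBy J N := fun a ha => by
  rw [← cancel_epi e.hom, ← smulMod_comp, h a ha, zero_comp, comp_zero]

theorem of_iso_comp {F F' G : ℕᵒᵖ ⥤ X.Modules} (e : F' ≅ F) (α : F ⟶ G)
    (h : _root_.Formal2.KerCokerKilledByIPow I α) : _root_.Formal2.KerCokerKilledByIPow I (e.hom ≫ α) := by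
  obtain ⟨t, ht⟩ := h
  refine ⟨t, fun n => ?_⟩
  exact ⟨killedBy_of_iso (kernelIsIsoComp (e.hom.app (op n)) (α.app (op n))).symm (ht n).1,
    killedBy_of_iso (cokernelEpiComp (e.hom.app (op n)) (α.app (op n))).symm (ht n).2⟩

theorem of_comp_iso {F G G' : ℕᵒᵖ ⥤ X.Modules} (α : F ⟶ G) (e : G ≅ G')
    (h : _root_.Formal2.KerCokerKilledByIPow I α) : _root_.Formal2.KerCokerKilledByIPow I (α ≫ e.hom) := by
  obtain ⟨t, ht⟩ := h
  refine ⟨t, fun n => ?_⟩
  exact ⟨killedBy_of_iso (kernelCompMono (α.app (op n)) (e.hom.app (op n))).symm (ht n).1,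
    killedBy_of_iso (cokernelCompIsIso (α.app (op n)) (e.hom.app (op n))).symm (ht n).2⟩

/-- Flat pullback preserves the property. -/
theorem pullback (f : X ⟶ Y) [Flat f] (hf : f ≫ (Y ↘ Spec (CommRingCat.of A)) = X ↘ Spec (CommRingCat.of A))
    {F G : ℕᵒᵖ ⥤ Y.Modules} (α : F ⟶ G) (h : _root_.Formal2.KerCokerKilledByIPow I α) :
    _root_.Formal2.KerCokerKilledByIPow I (Functor.whiskerRight α (Scheme.Modules.pullback f)) := by
  obtain ⟨t, ht⟩ := h
  let adj := Scheme.Modules.pullbackPushforwardAdjunction f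
  haveI : (Scheme.Modules.pullback f).Additive := adj.left_adjoint_additive
  haveI := adj.isLeftAdjoint
  haveI := adj.leftAdjoint_preservesColimits.{u, u}
  haveI : PreservesFiniteColimits (Scheme.Modules.pullback f) :=
    PreservesColimitsOfSize.preservesFiniteColimits _
  haveI : (Scheme.Modules.pullback f).PreservesMonomorphisms :=
    ⟨fun g _ => Groth.Agent.Lib.Cyc.FP.Stalk.mono_pullback f g⟩
  haveI := Functor.preservesHomology_of_preservesMonos_and_cokernels (Scheme.Modules.pullback f)
  haveI : PreservesFiniteLimits (Scheme.Modules.pullback f) :=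
    Functor.preservesFiniteLimits_of_preservesHomology _
  refine ⟨t, fun n => ⟨?_, ?_⟩⟩
  · exact killedBy_of_iso (PreservesKernel.iso (Scheme.Modules.pullback f) (α.app (op n)))
      (PullSys.killedBy_obj hf adj (ht n).1)
  · exact killedBy_of_iso (PreservesCokernel.iso (Scheme.Modules.pullback f) (α.app (op n)))
      (PullSys.killedBy_obj hf adj (ht n).2)

end Groth.Agent.H2.Completion.KerCoker
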