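import Groth.Agent.H2.Completion.Setup

/-!
# Extendable formal modules are those which become completions over a completion of the base
-/

set_option autoImplicit false
set_option linter.style.haveILetI false
set_option linter.unusedSectionVars false

universe u

open CategoryTheory Limits AlgebraicGeometry Opposite TopologicalSpace

namespace Groth.Agent.H2.Completion.Main

open Groth.Agent.Lib Groth.Agent.H78.Formal Groth.Agent.H2.Completion.Setup

variable {A B : Type u} [CommRing A] [CommRing B] [Algebra A B] [IsNoetherianRing A] [IsNoetherianRing B]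
  [Module.Flat A B] {I : Ideal A} (U : (Spec (CommRingCat.of A)).Opens)

variable (B) in
/-- The restricted morphism. -/
noncomputable abbrev g : (mor (A := A) B ⁻¹ᵁ U : Scheme.{u}) ⟶ (U : Scheme.{u}) := mor (A := A) B ∣_ U

variable (B) in
/-- Inverse image commutes with restriction. -/
noncomputable def restrPullIso :
    Scheme.Modules.restrictFunctor U.ι ⋙ Scheme.Modules.pullback (g B U) ≅
      Scheme.Modules.pullback (mor (A := A) B) ⋙ Scheme.Modules.restrictFunctor (mor (A := A) B ⁻¹ᵁ U).ι :=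
  Functor.isoWhiskerRight (Scheme.Modules.restrictFunctorIsoPullback U.ι) _ ≪≫
    Scheme.Modules.pullbackComp (g B U) U.ι ≪≫
    Scheme.Modules.pullbackCongr (morphismRestrict_ι _ U) ≪≫
    (Scheme.Modules.pullbackComp (mor (A := A) B ⁻¹ᵁ U).ι (mor (A := A) B)).symm ≪≫
    (Functor.isoWhiskerLeft _ (Scheme.Modules.restrictFunctorIsoPullback _)).symm

variable (G : ℕᵒᵖ ⥤ (U : Scheme.{u}).Modules)

/-- An extendable system becomes a completion over a complete base. -/
theorem exists_completion_of_extends [IsAdicComplete (I.map (algebraMap A B)) B]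
    (h : @_root_.Algz.Extends A _ (Spec (CommRingCat.of A)) ⟨𝟙 _⟩ I U G) :
    letI := overA A B (mor (A := A) B ⁻¹ᵁ U)
    ∃ F : (mor (A := A) B ⁻¹ᵁ U : Scheme.{u}).Modules, Coh.IsCoh F ∧
      Nonempty (_root_.Formal.completion I F ≅ G ⋙ Scheme.Modules.pullback (g B U)) := by
  letI : (Spec (CommRingCat.of A)).Over (Spec (CommRingCat.of A)) := ⟨𝟙 _⟩
  letI : (Spec (CommRingCat.of B)).Over (Spec (CommRingCat.of B)) := ⟨𝟙 _⟩
  letI : (Spec (CommRingCat.of B)).Over (Spec (CommRingCat.of A)) := ⟨mor (A := A) B⟩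
  letI := overA A B (mor (A := A) B ⁻¹ᵁ U)
  obtain ⟨G₁, hG₁, ⟨e⟩⟩ := h
  have hc : (Spec (CommRingCat.of B) ↘ Spec (CommRingCat.of B)) ≫ Spec.map (CommRingCat.ofHom (algebraMap A B)) =
      Spec (CommRingCat.of B) ↘ Spec (CommRingCat.of A) := Category.id_comp _
  have hP := (ChangeBase.isCohFormal_iff (algebraMap A B) hc I _).2
    (Extend.isCohFormal_pullback (f := mor (A := A) B) (Category.comp_id _) hG₁)
  obtain ⟨M, hM, ⟨e₁⟩⟩ := Algebraize.exists_completion_iso _ hP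
  obtain ⟨e₂⟩ := ChangeBase.completion_iso (algebraMap A B) hc I M
  obtain ⟨e₃⟩ := Extend.completion_restr_iso (I := I) (f := (mor (A := A) B ⁻¹ᵁ U).ι) rfl M
  exact ⟨_, Extend.isCoh_restr _ hM, ⟨e₃.symm ≪≫ Functor.isoWhiskerRight (e₂ ≪≫ e₁) _ ≪≫
    Functor.associator _ _ _ ≪≫ (Functor.isoWhiskerLeft G₁ (restrPullIso B U)).symm ≪≫
    (Functor.associator _ _ _).symm ≪≫ Functor.isoWhiskerRight e (Scheme.Modules.pullback (g B U))⟩⟩

variable (hq : Function.Bijective (Ideal.quotientMap (I.map (algebraMap A B)) (algebraMap A B) Ideal.le_comap_map))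
include hq

/-- A system which becomes a completion extends. -/
theorem extends_of_completion (hG : _root_.Formal.IsCohFormal I G)
    (h : letI := overA A B (mor (A := A) B ⁻¹ᵁ U)
      ∃ F : (mor (A := A) B ⁻¹ᵁ U : Scheme.{u}).Modules, Coh.IsCoh F ∧
        Nonempty (_root_.Formal.completion I F ≅ G ⋙ Scheme.Modules.pullback (g B U))) :
    @_root_.Algz.Extends A _ (Spec (CommRingCat.of A)) ⟨𝟙 _⟩ I U G := by
  letI : (Spec (CommRingCat.of A)).Over (Spec (CommRingCat.of A)) := ⟨𝟙 _⟩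
  letI : (Spec (CommRingCat.of B)).Over (Spec (CommRingCat.of A)) := ⟨mor (A := A) B⟩
  letI := overA A B (mor (A := A) B ⁻¹ᵁ U)
  obtain ⟨F, hF, ⟨eF⟩⟩ := h
  haveI := Canonical.quasiCompact_ι (mor (A := A) B ⁻¹ᵁ U)
  obtain ⟨N, hN, ⟨eN⟩⟩ := Extend.exists_extension _ hF
  haveI := flat_mor (A := A) (B := B)
  haveI : IsNoetherian (U : Scheme.{u}) := isNoetherian_opens U
  haveI : IsNoetherian (mor (A := A) B ⁻¹ᵁ U : Scheme.{u}) := isNoetherian_opens _
  haveI : Flat (g B U) :=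
    MorphismProperty.of_isPullback (P := @Flat) (isPullback_morphismRestrict (mor (A := A) B) U).flip ‹_›
  haveI : IsIso (Spec (CommRingCat.of A) ↘ Spec (CommRingCat.of A)) := IsIso.id _
  have hf : mor (A := A) B ≫ (Spec (CommRingCat.of A) ↘ Spec (CommRingCat.of A)) =
      Spec (CommRingCat.of B) ↘ Spec (CommRingCat.of A) := Category.comp_id _
  have h0 := isIso_lev_zero (I := I) hq (mor (A := A) B) hf (𝟙 _) (IsPullback.of_vert_isIso ⟨by
    show mor (A := A) B ≫ 𝟙 _ = 𝟙 _ ≫ mor (A := A) B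
    rw [Category.comp_id, Category.id_comp]⟩)
  obtain ⟨G₁, hG₁, ⟨e₁⟩⟩ := H21.ThickEquiv.exists_preimage_system (mor (A := A) B) hf
    (H21.ThickEquiv.isIso_lev _ hf h0) (Compl.isCohFormal_completion I hN)
  obtain ⟨e₂⟩ := Extend.completion_restr_iso (I := I) (f := (mor (A := A) B ⁻¹ᵁ U).ι) rfl N
  obtain ⟨e₃⟩ := Algebraize.completion_iso_of_iso I (show (Scheme.Modules.restrictFunctor _).obj N ≅ F from eN)
  let H := G₁ ⋙ Scheme.Modules.restrictFunctor U.ι
  have hH : _root_.Formal.IsCohFormal I H := Extend.isCohFormal_restr (Canonical.hcompat U) hG₁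
  let ε : H ⋙ Scheme.Modules.pullback (g B U) ≅ G ⋙ Scheme.Modules.pullback (g B U) :=
    Functor.associator _ _ _ ≪≫ Functor.isoWhiskerLeft G₁ (restrPullIso B U) ≪≫
      (Functor.associator _ _ _).symm ≪≫ Functor.isoWhiskerRight e₁ _ ≪≫ e₂ ≪≫ e₃ ≪≫ eF
  have hlev := H21.ThickEquiv.isIso_lev (I := I) (g B U) (restr_hf U)
    (isIso_lev_zero hq (g B U) (restr_hf U) (mor (A := A) B ⁻¹ᵁ U).ι (isPullback_morphismRestrict _ U))
  have bij := fun {G₁' G₂' : ℕᵒᵖ ⥤ (U : Scheme.{u}).Modules} (h₂ : _root_.Formal.IsCohFormal I G₂') =>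
    H21.ThickEquiv.bijective_whisker (G₁ := G₁') (G₂ := G₂') (g B U) (restr_hf U) hlev h₂
  obtain ⟨φ, hφ⟩ := (bij hG).2 ε.hom
  obtain ⟨χ, hχ⟩ := (bij hH).2 ε.inv
  refine ⟨G₁, hG₁, ⟨⟨φ, χ, (bij hH).1 ?_, (bij hG).1 ?_⟩⟩⟩
  · simp only [Functor.whiskerRight_comp] at hφ hχ ⊢
    rw [hφ, hχ, ε.hom_inv_id, Functor.whiskerRight_id']
  · simp only [Functor.whiskerRight_comp] at hφ hχ ⊢
    rw [hφ, hχ, ε.inv_hom_id, Functor.whiskerRight_id']

end Groth.Agent.H2.Completion.Main
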