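import Groth.Agent.H78.Formal.Canonical
import Groth.Agent.H2.Completion.ChangeBase
import Groth.Agent.Lib.CohDelta.BC.Flat
import Groth.Prelude.Def_CohBC2

/-!
# Sheaves of sections of a system under flat base change
-/

set_option autoImplicit false
set_option linter.style.haveILetI false
set_option linter.unusedSectionVars false

universe u

open CategoryTheory Limits AlgebraicGeometry Opposite TopologicalSpace

namespace Groth.Agent.H2.Completion.SectBC

open Groth.Agent.Lib Groth.Agent.H78.Formal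

variable {A : Type u} [CommRing A]

theorem nonempty_sectSys_iso (U : (Spec (CommRingCat.of A)).Opens) [QuasiCompact U.ι]
    (G : ℕᵒᵖ ⥤ (U : Scheme.{u}).Modules) (hG : ∀ n, (G.obj n).IsQuasicoherent) :
    Nonempty (_root_.Algz.sectSys A U G ≅ G ⋙ Scheme.Modules.pushforward U.ι) := by
  let β : _root_.Algz.sectSys A U G ⟶ G ⋙ Scheme.Modules.pushforward U.ι :=
    { app := fun n => (QCoh.Tilde.specAdj (CommRingCat.of A)).counit.app _
      naturality := fun n m g => (QCoh.Tilde.specAdj (CommRingCat.of A)).counit.naturality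
        ((Scheme.Modules.pushforward U.ι).map (G.map g)) }
  haveI : ∀ n, IsIso (β.app n) := fun n => by
    haveI := hG n
    haveI := QCoh.Pushforward.isQCoh_pushforward (f := U.ι) (M := G.obj n)
    exact Algebraize.isIso_counit (R := CommRingCat.of A) _
  haveI := NatIso.isIso_of_isIso_app β
  exact ⟨asIso β⟩

section BC

variable {X S X' S' : Scheme.{u}} (f : X ⟶ S) (g : S' ⟶ S) (g' : X' ⟶ X) (f' : X' ⟶ S')

/-- The base change morphism in degree zero is natural. -/
theorem bc0_naturality (w : g' ≫ f = f' ≫ g) {M N : X.Modules} (φ : M ⟶ N) :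
    (Scheme.Modules.pullback g).map ((Scheme.Modules.pushforward f).map φ) ≫ CohBC.bc0 f g f' g' w N =
      CohBC.bc0 f g f' g' w M ≫ (Scheme.Modules.pushforward f').map ((Scheme.Modules.pullback g').map φ) := by
  apply ((Scheme.Modules.pullbackPushforwardAdjunction g).homEquiv _ _).injective
  rw [CohBC.bc0, CohBC.bc0, Adjunction.homEquiv_naturality_left, Adjunction.homEquiv_naturality_right,
    Equiv.apply_symm_apply, Equiv.apply_symm_apply, CohBC.bc0Adj, CohBC.bc0Adj, ← Functor.map_comp_assoc]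
  simp only [Category.assoc]
  have hu := (Scheme.Modules.pullbackPushforwardAdjunction g').unit.naturality φ
  have h1 := (Scheme.Modules.pushforwardComp g' f).hom.naturality ((Scheme.Modules.pullback g').map φ)
  have h2 := (Scheme.Modules.pushforwardCongr w).hom.naturality ((Scheme.Modules.pullback g').map φ)
  have h3 := (Scheme.Modules.pushforwardComp f' g).inv.naturality ((Scheme.Modules.pullback g').map φ)
  simp only [Functor.id_map, Functor.comp_map] at hu h1 h2 h3
  erw [hu, Functor.map_comp_assoc, reassoc_of% h1, reassoc_of% h2, h3]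

/-- Flat base change, naturally along a system. -/
theorem nonempty_bc_iso (h : IsPullback g' f' f g) [QuasiCompact f] [QuasiSeparated f] [Flat g]
    (G : ℕᵒᵖ ⥤ X.Modules) (hG : ∀ n, (G.obj n).IsQuasicoherent) :
    Nonempty (G ⋙ Scheme.Modules.pushforward f ⋙ Scheme.Modules.pullback g ≅
      G ⋙ Scheme.Modules.pullback g' ⋙ Scheme.Modules.pushforward f') := by
  let β : G ⋙ Scheme.Modules.pushforward f ⋙ Scheme.Modules.pullback g ⟶
      G ⋙ Scheme.Modules.pullback g' ⋙ Scheme.Modules.pushforward f' :=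
    { app := fun n => CohBC.bc0 f g f' g' h.w (G.obj n)
      naturality := fun n m t => bc0_naturality f g g' f' h.w (G.map t) }
  haveI : ∀ n, IsIso (β.app n) := fun n => by
    haveI := hG n
    exact Groth.Agent.Lib.CohDelta.BC.Flat.isIso_bc0 f g g' f' h (G.obj n)
  haveI := NatIso.isIso_of_isIso_app β
  exact ⟨asIso β⟩

end BC

theorem canonicallyExtends [IsNoetherianRing A] (U : (Spec (CommRingCat.of A)).Opens) {I : Ideal A}
    (G : ℕᵒᵖ ⥤ (U : Scheme.{u}).Modules) (hG : _root_.Formal.IsCohFormal I G)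
    {B : Type u} [CommRing B] [Algebra A B] [Module.Flat A B]
    (h : _root_.Algz.CanonicallyExtends A I U G) :
    _root_.Algz.CanonicallyExtends B (I.map (algebraMap A B))
      (Spec.map (CommRingCat.ofHom (algebraMap A B)) ⁻¹ᵁ U)
      (G ⋙ Scheme.Modules.pullback (morphismRestrict (Spec.map (CommRingCat.ofHom (algebraMap A B))) U)) := by
  letI : (Spec (CommRingCat.of A)).Over (Spec (CommRingCat.of A)) := ⟨𝟙 _⟩
  letI : (Spec (CommRingCat.of B)).Over (Spec (CommRingCat.of B)) := ⟨𝟙 _⟩
  letI : (Spec (CommRingCat.of B)).Over (Spec (CommRingCat.of A)) :=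
    ⟨Spec.map (CommRingCat.ofHom (algebraMap A B))⟩
  let m := Spec.map (CommRingCat.ofHom (algebraMap A B))
  haveI : Flat m := (HasRingHomProperty.Spec_iff (P := @Flat)).2 ((RingHom.flat_algebraMap_iff).2 inferInstance)
  haveI := Canonical.quasiCompact_ι U
  haveI : QuasiCompact (m ⁻¹ᵁ U).ι :=
    MorphismProperty.of_isPullback (P := @QuasiCompact) (isPullback_morphismRestrict m U) ‹_›
  have hqc : ∀ n, (G.obj n).IsQuasicoherent := fun n => (hG.1 n.unop).1
  have hqc' : ∀ n, ((G ⋙ Scheme.Modules.pullback (m ∣_ U)).obj n).IsQuasicoherent := fun n =>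
    (Extend.isCoh_pull (m ∣_ U) (hG.1 n.unop)).1
  obtain ⟨G₁, hG₁, k, hk, hle, a, ha⟩ := h
  obtain ⟨e₁⟩ := nonempty_sectSys_iso U G hqc
  obtain ⟨e₂⟩ := nonempty_bc_iso U.ι m (m ∣_ U) (m ⁻¹ᵁ U).ι (isPullback_morphismRestrict m U) G hqc
  obtain ⟨e₃⟩ := nonempty_sectSys_iso (m ⁻¹ᵁ U) (G ⋙ Scheme.Modules.pullback (m ∣_ U)) hqc'
  obtain ⟨a', ha'⟩ := Canonical.isProIso_map (Scheme.Modules.pullback m) a
    (Functor.isoWhiskerRight e₁ _ ≪≫ Functor.associator _ _ _ ≪≫ e₂ ≪≫ (Functor.associator _ _ _).symm ≪≫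
      e₃.symm) ha
  exact ⟨_, (ChangeBase.isCohFormal_iff (algebraMap A B) (Category.id_comp _) I _).2
    (Extend.isCohFormal_pullback (f := m) (Category.comp_id _) hG₁), k, hk, hle, a', ha'⟩

end Groth.Agent.H2.Completion.SectBC
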