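import Groth.Agent.H2.Completion.ChangeBase
import Groth.Agent.H78.Formal.Canonical
import Groth.Agent.H21.ThickEquiv.Equiv
import Groth.Agent.Lib.Adic.RigLoc
import Groth.Agent.Lib.Excellent.CompletionNoetherian
import Mathlib.AlgebraicGeometry.Pullbacks

/-!
# Extension of formal modules and base change to a completion

`extends_iff`: for `B` flat over `A`, complete for `IB`, with `A/I = B/IB`, a coherent formal module on an
open `U ⊆ Spec A` extends iff its pullback to `U' ⊆ Spec B` is the completion of a coherent module.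
-/

set_option autoImplicit false
set_option linter.style.haveILetI false
set_option linter.unusedSectionVars false

universe u

open CategoryTheory Limits AlgebraicGeometry Opposite TopologicalSpace
open scoped TensorProduct

namespace Groth.Agent.H2.Completion.Setup

open Groth.Agent.Lib Groth.Agent.H78.Formal

variable {A B : Type u} [CommRing A] [CommRing B] [Algebra A B]

variable (B) in
/-- The morphism `Spec B → Spec A`. -/
noncomputable abbrev mor : Spec (CommRingCat.of B) ⟶ Spec (CommRingCat.of A) :=
  Spec.map (CommRingCat.ofHom (algebraMap A B))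

theorem isIso_fst_specQuot {I : Ideal A}
    (hq : Function.Bijective (Ideal.quotientMap (I.map (algebraMap A B)) (algebraMap A B) Ideal.le_comap_map)) :
    IsIso (pullback.fst (CohB1.specQuot I 0) (mor B)) := by
  let J := I ^ (0 + 1)
  have hJ : J = I := by simp [J]
  have hb : Function.Bijective (Algebra.TensorProduct.includeRight : A ⧸ J →ₐ[A] B ⊗[A] (A ⧸ J)) := by
    have hq' : Function.Bijective (Ideal.quotientMap (J.map (algebraMap A B)) (algebraMap A B) Ideal.le_comap_map) := by
      revert hq
      rw [← hJ]
      exact id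
    let e := Algebra.TensorProduct.quotIdealMapEquivTensorQuot B J
    have he : ∀ x, (Algebra.TensorProduct.includeRight : A ⧸ J →ₐ[A] B ⊗[A] (A ⧸ J)) x =
        e (Ideal.quotientMap (J.map (algebraMap A B)) (algebraMap A B) Ideal.le_comap_map x) := fun x => by
      obtain ⟨a, rfl⟩ := Ideal.Quotient.mk_surjective x
      rw [Ideal.quotientMap_mk, Algebra.TensorProduct.quotIdealMapEquivTensorQuot_mk,
        Algebra.TensorProduct.includeRight_apply, Algebra.algebraMap_eq_smul_one, TensorProduct.smul_tmul,
        Algebra.smul_def, mul_one]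
      rfl
    rw [show ((Algebra.TensorProduct.includeRight : A ⧸ J →ₐ[A] B ⊗[A] (A ⧸ J)) : A ⧸ J → _) =
      e ∘ Ideal.quotientMap (J.map (algebraMap A B)) (algebraMap A B) Ideal.le_comap_map from funext he]
    exact e.bijective.comp hq'
  haveI : IsIso (CommRingCat.ofHom
      (RingHomClass.toRingHom (Algebra.TensorProduct.includeRight : A ⧸ J →ₐ[A] B ⊗[A] (A ⧸ J)))) :=
    (ConcreteCategory.isIso_iff_bijective _).2 hb
  haveI : IsIso (pullback.snd (mor B) (CohB1.specQuot I 0)) := by
    have h := pullbackSpecIso_inv_snd A B (A ⧸ J)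
    show IsIso (pullback.snd (Spec.map (CommRingCat.ofHom (algebraMap A B)))
      (Spec.map (CommRingCat.ofHom (algebraMap A (A ⧸ J)))))
    rw [(Iso.inv_comp_eq _).1 h]
    exact IsIso.comp_isIso
  rw [← pullbackSymmetry_hom_comp_snd]
  infer_instance

variable [IsNoetherianRing A] [IsNoetherianRing B] [Module.Flat A B] {I : Ideal A}
  (hq : Function.Bijective (Ideal.quotientMap (I.map (algebraMap A B)) (algebraMap A B) Ideal.le_comap_map))

variable (A B) in
/-- The structure morphism to `Spec A` of an open of `Spec B`. -/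
@[reducible] noncomputable def overA (V : (Spec (CommRingCat.of B)).Opens) :
    (V : Scheme.{u}).Over (Spec (CommRingCat.of A)) := ⟨V.ι ≫ mor (A := A) B⟩

theorem isNoetherian_opens {R : Type u} [CommRing R] [IsNoetherianRing R] (V : (Spec (CommRingCat.of R)).Opens) :
    IsNoetherian (V : Scheme.{u}) :=
  haveI : IsLocallyNoetherian (V : Scheme.{u}) := isLocallyNoetherian_of_isOpenImmersion V.ι
  haveI : CompactSpace (V : Scheme.{u}) := QuasiCompact.compactSpace_of_compactSpace V.ι
  { }

theorem flat_mor : Flat (mor (A := A) B) :=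
  (HasRingHomProperty.Spec_iff (P := @Flat)).2 ((RingHom.flat_algebraMap_iff).2 inferInstance)

variable (U : (Spec (CommRingCat.of A)).Opens)

theorem restr_hf : letI := overA A B (mor (A := A) B ⁻¹ᵁ U)
    (mor (A := A) B ∣_ U) ≫ ((U : Scheme.{u}) ↘ Spec (CommRingCat.of A)) =
      ((mor (A := A) B ⁻¹ᵁ U : Scheme.{u}) ↘ Spec (CommRingCat.of A)) :=
  morphismRestrict_ι _ _

include hq in
/-- A base change of `Spec B → Spec A` is an isomorphism on the zero locus of `I`. -/
theorem isIso_lev_zero {X X' : Scheme.{u}} [X.Over (Spec (CommRingCat.of A))] [X'.Over (Spec (CommRingCat.of A))]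
    (g : X' ⟶ X) (hg : g ≫ (X ↘ Spec (CommRingCat.of A)) = X' ↘ Spec (CommRingCat.of A))
    (j : X' ⟶ Spec (CommRingCat.of B)) (sq : IsPullback g j (X ↘ Spec (CommRingCat.of A)) (mor (A := A) B)) :
    IsIso (H21.ThickEquiv.lev (I := I) g hg 0) := by
  haveI := isIso_fst_specQuot (B := B) hq
  let q := CohB1.specQuot I 0
  let s : H21.ThickEquiv.level I X 0 ⟶ _ := pullback.snd _ q
  have h1 := (H21.ThickEquiv.isPullback_lev (I := I) g hg 0).flip.paste_vert sq
  let l : H21.ThickEquiv.level I X' 0 ⟶ pullback q (mor (A := A) B) :=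
    pullback.lift (H21.ThickEquiv.lev (I := I) g hg 0 ≫ s)
      (H21.ThickEquiv.incl I X' 0 ≫ j) (by
        rw [Category.assoc, Category.assoc, ← pullback.condition]
        exact h1.w.trans (Category.assoc _ _ _))
  have hs : H21.ThickEquiv.incl I X 0 ≫ (X ↘ Spec (CommRingCat.of A)) = s ≫ q := pullback.condition
  rw [hs] at h1
  have h2 : IsPullback (H21.ThickEquiv.lev (I := I) g hg 0) l s (pullback.fst q (mor (A := A) B)) :=
    IsPullback.of_bot (by rw [pullback.lift_snd]; exact h1) (pullback.lift_fst _ _ _).symm
      (IsPullback.of_hasPullback q (mor (A := A) B))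
  exact (MorphismProperty.isomorphisms.iff _).1
    (MorphismProperty.of_isPullback (P := MorphismProperty.isomorphisms Scheme.{u}) h2.flip
      ((MorphismProperty.isomorphisms.iff _).2 inferInstance))

end Groth.Agent.H2.Completion.Setup
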